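import Mathlib

/-!
Every permutation is a product of two involutions of nearly equal support.
-/

set_option autoImplicit false

namespace Cfsg.Agent.Lib.AltCover

open Equiv

set_option linter.unusedSectionVars false

variable {α : Type*} [Fintype α] [DecidableEq α]

/-- The excess of the second involution. -/
def excess (g : Perm α) : ℕ := if Perm.sign g = 1 then 0 else 2

theorem conj_cycle {σ c : Perm α} (h : c * σ * c⁻¹ = σ⁻¹) (i : ℤ) (y : α) :
    c ((σ ^ i) y) = (σ ^ (-i)) (c y) := by
  have h1 : c * σ ^ i * c⁻¹ = σ ^ (-i) := by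
    rw [← conj_zpow, h, inv_zpow, zpow_neg]
  have h2 : c * σ ^ i = σ ^ (-i) * c := by rw [← h1]; group
  have h3 := congrArg (fun f : Perm α => f y) h2
  simpa only [Perm.mul_apply] using h3

theorem cycle_case {σ : Perm α} (hσ : σ.IsCycle) :
    ∃ r : Perm α, r * r = 1 ∧ σ * r * (σ * r) = 1 ∧ r.support ⊆ σ.support ∧
      (σ * r).support.card = r.support.card + excess σ ∧ ∃ y, y ∈ (σ * r).support ∧ y ∉ r.support := by
  obtain ⟨x, hx⟩ := hσ.nonempty_support
  obtain ⟨c, hc⟩ := isConj_iff.mp
    (Perm.isConj_iff_cycleType_eq.mpr (Perm.cycleType_inv σ).symm : IsConj σ σ⁻¹)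
  have hcx : σ (c x) ≠ c x := by
    intro e
    have e2 : c (σ x) = σ⁻¹ (c x) := by simpa using conj_cycle hc 1 x
    rw [show σ⁻¹ (c x) = c x from Perm.inv_eq_iff_eq.mpr e.symm] at e2
    exact Perm.mem_support.mp hx (c.injective e2)
  obtain ⟨j, hj⟩ := hσ.sameCycle hcx (Perm.mem_support.mp hx)
  set d := σ ^ j * c with hd
  have hdc : d * σ * d⁻¹ = σ⁻¹ := by
    rw [hd, show σ ^ j * c * σ * (σ ^ j * c)⁻¹ = σ ^ j * (c * σ * c⁻¹) * (σ ^ j)⁻¹ by group, hc]
    group
  have hdx : d x = x := by rw [hd, Perm.mul_apply, hj]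
  have hdy : ∀ y, σ y ≠ y ↔ σ (d y) ≠ d y := by
    intro y
    have e2 : d (σ y) = σ⁻¹ (d y) := by simpa using conj_cycle hdc 1 y
    constructor
    · intro h e
      rw [show σ⁻¹ (d y) = d y from Perm.inv_eq_iff_eq.mpr e.symm] at e2
      exact h (d.injective e2)
    · intro h e
      rw [e] at e2
      exact h (by simpa using congrArg σ e2)
  have hmem : ∀ y, d y ∈ σ.support ↔ y ∈ σ.support := fun y => by
    simp only [Perm.mem_support]; exact (hdy y).symm
  set r : Perm α := Perm.ofSubtype (d.subtypePerm (p := (· ∈ σ.support)) hmem) with hr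
  have hron : ∀ y ∈ σ.support, r y = d y := fun y hy => by
    rw [hr, Perm.ofSubtype_apply_of_mem _ hy]; rfl
  have hroff : ∀ y, y ∉ σ.support → r y = y := fun y hy => by
    rw [hr, Perm.ofSubtype_apply_of_not_mem _ hy]
  have hexp : ∀ y ∈ σ.support, ∃ i : ℕ, i < σ.support.card ∧ (σ ^ i) x = y := by
    intro y hy
    obtain ⟨i, hi⟩ := hσ.exists_pow_eq (Perm.mem_support.mp hx) (Perm.mem_support.mp hy)
    refine ⟨i % σ.support.card, Nat.mod_lt _ (Finset.card_pos.mpr ⟨x, hx⟩), ?_⟩
    rw [← hσ.orderOf, pow_mod_orderOf, hi]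
  have hin : ∀ i : ℕ, (σ ^ i) x ∈ σ.support := fun i => Perm.pow_apply_mem_support.mpr hx
  have hrpow : ∀ i : ℕ, r ((σ ^ i) x) = (σ ^ (-(i : ℤ))) x := fun i => by
    rw [hron _ (hin i), ← zpow_natCast σ i, conj_cycle hdc, hdx]
  have hpt : ∀ a b : ℕ, (σ ^ a) x = (σ ^ b) x ↔ a % σ.support.card = b % σ.support.card := by
    intro a b
    rw [← hσ.orderOf, ← Nat.ModEq, ← pow_eq_pow_iff_modEq]
    exact ⟨fun h => hσ.pow_eq_pow_iff.mpr ⟨x, Perm.mem_support.mp hx, h⟩, fun h => by rw [h]⟩
  have hzp : ∀ (i : ℕ) (y : α), (σ ^ i) ((σ ^ (-(i : ℤ))) y) = y := fun i y => by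
    rw [← zpow_natCast, ← Perm.mul_apply, ← zpow_add, add_neg_cancel, zpow_zero, Perm.one_apply]
  have hrfix : ∀ i : ℕ, r ((σ ^ i) x) = (σ ^ i) x ↔ (2 * i) % σ.support.card = 0 := fun i => by
    rw [hrpow, ← (σ ^ i).injective.eq_iff, hzp, ← Perm.mul_apply, ← pow_add, ← two_mul, eq_comm]
    have := hpt (2 * i) 0
    simpa using this
  have hsfix : ∀ i : ℕ, (σ * r) ((σ ^ i) x) = (σ ^ i) x ↔ (2 * i) % σ.support.card = 1 % σ.support.card := fun i => by
    rw [Perm.mul_apply, hrpow, ← (σ ^ i).injective.eq_iff, ← Perm.mul_apply (σ ^ i) σ,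
      show σ ^ i * σ = σ * σ ^ i from (Commute.pow_self σ i).eq, Perm.mul_apply, hzp,
      ← Perm.mul_apply, ← pow_add, ← two_mul, eq_comm]
    simpa using hpt (2 * i) 1
  have hr2 : r * r = 1 := by
    refine Perm.ext fun y => ?_
    rw [Perm.mul_apply, Perm.one_apply]
    by_cases hy : y ∈ σ.support
    · obtain ⟨i, -, rfl⟩ := hexp y hy
      have h2 : (σ ^ (-(i : ℤ))) x ∈ σ.support := Perm.zpow_apply_mem_support.mpr hx
      rw [hrpow, hron _ h2, conj_cycle hdc, hdx, neg_neg, zpow_natCast]
    · rw [hroff y hy, hroff y hy]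
  have hrsupp : r.support ⊆ σ.support := fun y hy => by
    by_contra h; exact Perm.mem_support.mp hy (hroff y h)
  have hsr2 : σ * r * (σ * r) = 1 := by
    have e : r * σ * r = σ⁻¹ := by
      refine Perm.ext fun y => ?_
      rw [Perm.mul_apply, Perm.mul_apply]
      by_cases hy : y ∈ σ.support
      · obtain ⟨i, -, rfl⟩ := hexp y hy
        have h2 : σ ((σ ^ (-(i : ℤ))) x) ∈ σ.support :=
          Perm.apply_mem_support.mpr (Perm.zpow_apply_mem_support.mpr hx)
        have e1 := conj_cycle hdc 1 ((σ ^ (-(i : ℤ))) x)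
        rw [zpow_one, zpow_neg_one] at e1
        rw [hrpow, hron _ h2, e1, conj_cycle hdc, hdx, neg_neg, zpow_natCast]
      · have hs : σ y = y := Perm.notMem_support.mp hy
        rw [hroff y hy, hs, hroff y hy]
        exact (Perm.inv_eq_iff_eq.mpr hs.symm).symm
    rw [show σ * r * (σ * r) = σ * (r * σ * r) by group, e, mul_inv_cancel]
  have hcard : ∀ (f : Perm α) (P : ℕ → Prop) [DecidablePred P], f.support ⊆ σ.support →
      (∀ i, f ((σ ^ i) x) = (σ ^ i) x ↔ P i) →
      f.support.card + ((Finset.range σ.support.card).filter P).card = σ.support.card := by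
    intro f P _ hf hP
    have h1 : ((Finset.range σ.support.card).filter P).image (fun i => (σ ^ i) x) = σ.support \ f.support := by
      ext y
      simp only [Finset.mem_image, Finset.mem_filter, Finset.mem_range, Finset.mem_sdiff]
      constructor
      · rintro ⟨i, ⟨-, hi⟩, rfl⟩
        exact ⟨hin i, Perm.notMem_support.mpr ((hP i).mpr hi)⟩
      · rintro ⟨h1, h2⟩
        obtain ⟨i, hi, rfl⟩ := hexp y h1
        exact ⟨i, ⟨hi, (hP i).mp (Perm.notMem_support.mp h2)⟩, rfl⟩
    have h2 := congrArg Finset.card h1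
    rw [Finset.card_image_of_injOn, Finset.card_sdiff_of_subset hf] at h2
    · have := Finset.card_le_card hf; omega
    · intro a ha b hb e
      have := (hpt a b).mp e
      rw [Finset.mem_coe, Finset.mem_filter, Finset.mem_range] at ha hb
      rwa [Nat.mod_eq_of_lt ha.1, Nat.mod_eq_of_lt hb.1] at this
  have hsrsupp : (σ * r).support ⊆ σ.support :=
    (Perm.support_mul_le σ r).trans (Finset.union_subset subset_rfl hrsupp)
  refine ⟨r, hr2, hsr2, hrsupp, ?_, x, ?_, ?_⟩
  · have c1 := hcard r (fun i => (2 * i) % σ.support.card = 0) hrsupp hrfix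
    have c2 := hcard (σ * r) (fun i => (2 * i) % σ.support.card = 1 % σ.support.card) hsrsupp hsfix
    have hm2 := hσ.two_le_card_support
    have hsgn := hσ.sign
    unfold excess
    generalize σ.support.card = m at c1 c2 hm2 hsgn ⊢
    obtain ⟨k, rfl | rfl⟩ := Nat.even_or_odd' m
    · have e1 : (Finset.range (2 * k)).filter (fun i => (2 * i) % (2 * k) = 0) = {0, k} := by
        ext i
        simp only [Finset.mem_filter, Finset.mem_range, Finset.mem_insert, Finset.mem_singleton,
          Nat.mul_mod_mul_left, Nat.mul_eq_zero, OfNat.ofNat_ne_zero, false_or]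
        constructor
        · rintro ⟨hi, h⟩
          obtain ⟨e, rfl⟩ := Nat.dvd_of_mod_eq_zero h
          have : e < 2 := Nat.lt_of_mul_lt_mul_left (a := k) (by omega)
          interval_cases e <;> simp
        · rintro (rfl | rfl) <;> simp <;> omega
      have e2 : (Finset.range (2 * k)).filter (fun i => (2 * i) % (2 * k) = 1 % (2 * k)) = ∅ := by
        refine Finset.filter_eq_empty_iff.mpr fun i _ h => ?_
        rw [Nat.mod_eq_of_lt (show 1 < 2 * k by omega), Nat.mul_mod_mul_left] at h
        omega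
      rw [e1, Finset.card_pair (by omega)] at c1
      rw [e2, Finset.card_empty] at c2
      have : Perm.sign σ ≠ 1 := by
        rw [hsgn, pow_mul, neg_one_sq, one_pow]; decide
      rw [if_neg this]; omega
    · have e1 : (Finset.range (2 * k + 1)).filter (fun i => (2 * i) % (2 * k + 1) = 0) = {0} := by
        ext i
        simp only [Finset.mem_filter, Finset.mem_range, Finset.mem_singleton]
        constructor
        · rintro ⟨hi, h⟩
          obtain ⟨e, he⟩ := Nat.dvd_of_mod_eq_zero h
          have : e < 2 := Nat.lt_of_mul_lt_mul_left (a := 2 * k + 1) (by omega)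
          interval_cases e <;> omega
        · rintro rfl; simp
      have e2 : (Finset.range (2 * k + 1)).filter (fun i => (2 * i) % (2 * k + 1) = 1 % (2 * k + 1)) = {k + 1} := by
        ext i
        simp only [Finset.mem_filter, Finset.mem_range, Finset.mem_singleton]
        rw [Nat.mod_eq_of_lt (show 1 < 2 * k + 1 by omega)]
        constructor
        · rintro ⟨hi, h⟩
          have hd := Nat.div_add_mod (2 * i) (2 * k + 1)
          rw [h] at hd
          have : 2 * i / (2 * k + 1) < 2 := Nat.div_lt_iff_lt_mul (by omega) |>.mpr (by omega)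
          interval_cases hq : 2 * i / (2 * k + 1) <;> omega
        · rintro rfl
          refine ⟨by omega, ?_⟩
          rw [show 2 * (k + 1) = 1 + (2 * k + 1) by ring, Nat.add_mod_right, Nat.mod_eq_of_lt (by omega)]
      rw [e1, Finset.card_singleton] at c1
      rw [e2, Finset.card_singleton] at c2
      have : Perm.sign σ = 1 := by
        rw [hsgn, pow_succ, pow_mul, neg_one_sq, one_pow, one_mul, neg_neg]
      rw [if_pos this]; omega
  · rw [Perm.mem_support]
    intro e
    have := (hsfix 0).mp (by simpa using e)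
    rw [mul_zero, Nat.zero_mod, Nat.mod_eq_of_lt hσ.two_le_card_support] at this
    omega
  · rw [Perm.notMem_support]
    simpa using (hrfix 0).mpr (by simp)

/-- Interchanging the two factors. -/
theorem flip {g r : Perm α} (h1 : r * r = 1) (h2 : g * r * (g * r) = 1) (h3 : r.support ⊆ g.support) :
    g⁻¹ * r * (g⁻¹ * r) = 1 ∧ g * (g⁻¹ * r) = r ∧ (g⁻¹ * r).support ⊆ g.support ∧
      (g⁻¹ * r).support.card = (g * r).support.card := by
  have hr : r⁻¹ = r := inv_eq_of_mul_eq_one_right h1
  have hrg : r * g * r = g⁻¹ :=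
    eq_inv_of_mul_eq_one_right (by rw [← h2]; group)
  have hrg' : r * g⁻¹ * r = g := by
    calc r * g⁻¹ * r = (r * g * r)⁻¹ := by rw [mul_inv_rev, mul_inv_rev, hr]; group
      _ = g := by rw [hrg, inv_inv]
  refine ⟨?_, mul_inv_cancel_left _ _, ?_, ?_⟩
  · rw [show g⁻¹ * r * (g⁻¹ * r) = g⁻¹ * (r * g⁻¹ * r) by group, hrg', inv_mul_cancel]
  · refine (Perm.support_mul_le _ _).trans (Finset.union_subset ?_ h3)
    rw [Perm.support_inv]
  · have : g⁻¹ * r = r * (g * r) * r⁻¹ := by
      rw [← hrg, hr]; group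
    rw [this, Perm.support_conj, Finset.card_map]

theorem union_case {σ τ r s : Perm α} (hd : σ.Disjoint τ) (hr : r.support ⊆ σ.support) (hr2 : r * r = 1)
    (hsr : σ * r * (σ * r) = 1) (hs : s.support ⊆ τ.support) (hs2 : s * s = 1) (hts : τ * s * (τ * s) = 1) :
    r * s * (r * s) = 1 ∧ σ * τ * (r * s) * (σ * τ * (r * s)) = 1 ∧
      (r * s).support = r.support ∪ s.support ∧ Disjoint r.support s.support ∧
      (σ * τ * (r * s)).support = (σ * r).support ∪ (τ * s).support ∧
      Disjoint (σ * r).support (τ * s).support := by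
  have hst : Disjoint σ.support τ.support := Perm.disjoint_iff_disjoint_support.mp hd
  have a1 : (σ * r).support ⊆ σ.support := (Perm.support_mul_le _ _).trans (Finset.union_subset subset_rfl hr)
  have a2 : (τ * s).support ⊆ τ.support := (Perm.support_mul_le _ _).trans (Finset.union_subset subset_rfl hs)
  have d1 : Perm.Disjoint r s := Perm.disjoint_iff_disjoint_support.mpr (hst.mono hr hs)
  have d2 : Perm.Disjoint (σ * r) (τ * s) := Perm.disjoint_iff_disjoint_support.mpr (hst.mono a1 a2)
  have c1 : τ * r = r * τ := (Perm.disjoint_iff_disjoint_support.mpr (hst.mono hr subset_rfl)).commute.symm.eq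
  have e : σ * τ * (r * s) = σ * r * (τ * s) := by
    calc σ * τ * (r * s) = σ * (τ * r) * s := by group
      _ = σ * (r * τ) * s := by rw [c1]
      _ = σ * r * (τ * s) := by group
  refine ⟨?_, ?_, d1.support_mul, hst.mono hr hs, e ▸ d2.support_mul, hst.mono a1 a2⟩
  · rw [d1.commute.symm.mul_mul_mul_comm r s, hr2, hs2, one_mul]
  · rw [e, d2.commute.symm.mul_mul_mul_comm (σ * r) (τ * s), hsr, hts, one_mul]

theorem exists_inverting (g : Perm α) :
    ∃ r : Perm α, r * r = 1 ∧ g * r * (g * r) = 1 ∧ r.support ⊆ g.support ∧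
      (g * r).support.card = r.support.card + excess g ∧
      (g ≠ 1 → ∃ y, y ∈ (g * r).support ∧ y ∉ r.support) := by
  induction g using Perm.cycle_induction_on with
  | base_one => exact ⟨1, by simp, by simp, by simp, by simp [excess], fun h => absurd rfl h⟩
  | base_cycles σ hσ =>
    obtain ⟨r, h1, h2, h3, h4, h5⟩ := cycle_case hσ
    exact ⟨r, h1, h2, h3, h4, fun _ => h5⟩
  | induction_disjoint σ τ hd hσ ih1 ih2 =>
    obtain ⟨r, r1, r2, r3, r4, r5⟩ := ih1
    obtain ⟨y, hy1, hy2⟩ := r5 hσ.ne_one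
    have hst : Disjoint σ.support τ.support := Perm.disjoint_iff_disjoint_support.mp hd
    have hyσ : y ∈ σ.support := (Perm.support_mul_le σ r).trans (Finset.union_subset subset_rfl r3) hy1
    have key : ∀ s : Perm α, s * s = 1 → τ * s * (τ * s) = 1 → s.support ⊆ τ.support →
        (σ * r).support.card + (τ * s).support.card = r.support.card + s.support.card + excess (σ * τ) →
        ∃ t : Perm α, t * t = 1 ∧ σ * τ * t * (σ * τ * t) = 1 ∧ t.support ⊆ (σ * τ).support ∧
          (σ * τ * t).support.card = t.support.card + excess (σ * τ) ∧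
          (σ * τ ≠ 1 → ∃ z, z ∈ (σ * τ * t).support ∧ z ∉ t.support) := by
      intro s s1 s2 s3 s4
      obtain ⟨u1, u2, u3, u4, u5, u6⟩ := union_case hd r3 r1 r2 s3 s1 s2
      refine ⟨r * s, u1, u2, ?_, ?_, fun _ => ⟨y, ?_, ?_⟩⟩
      · rw [u3, hd.support_mul]; exact Finset.union_subset_union r3 s3
      · rw [u3, u5, Finset.card_union_of_disjoint u4, Finset.card_union_of_disjoint u6]; exact s4
      · rw [u5]; exact Finset.mem_union_left _ hy1
      · rw [u3, Finset.mem_union, not_or]
        exact ⟨hy2, fun h => Finset.disjoint_left.mp hst hyσ (s3 h)⟩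
    obtain ⟨s, s1, s2, s3, s4, -⟩ := ih2
    rcases Int.units_eq_one_or (Perm.sign σ) with e1 | e1 <;>
      rcases Int.units_eq_one_or (Perm.sign τ) with e2 | e2
    · exact key s s1 s2 s3 (by simp [excess, e1, e2] at r4 s4 ⊢; omega)
    · exact key s s1 s2 s3 (by simp [excess, e1, e2] at r4 s4 ⊢; omega)
    · exact key s s1 s2 s3 (by simp [excess, e1, e2] at r4 s4 ⊢; omega)
    · obtain ⟨f1, f2, f3, f4⟩ := flip s1 s2 s3
      refine key (τ⁻¹ * s) f1 ?_ f3 ?_
      · rw [f2]; exact s1
      · rw [f2, f4]; simp [excess, e1, e2] at r4 s4 ⊢; omega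

end Cfsg.Agent.Lib.AltCover
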