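import Mathlib
import Cfsg.Agent.Lib.AltCover.Decomp
import Cfsg.Agent.Lib.Characters.AltMultiplier

/-!
Every element of a double cover of an alternating group is a commutator.
-/

set_option autoImplicit false
set_option linter.unusedSectionVars false
set_option linter.unusedSimpArgs false
set_option linter.style.haveILetI false

namespace Cfsg.Agent.Lib.AltCover

open Equiv
open scoped commutatorElement
open Cfsg.Agent.Lib.Characters.AltMultiplier

section Perms

variable {α : Type*} [Fintype α] [DecidableEq α]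

/-- Two disjoint transpositions. -/
def dt (a b c d : α) : Perm α := swap a b * swap c d

/-- Four distinct points. -/
def Quad (a b c d : α) : Prop := a ≠ b ∧ a ≠ c ∧ a ≠ d ∧ b ≠ c ∧ b ≠ d ∧ c ≠ d

theorem dt_apply {a b c d : α} (h : Quad a b c d) :
    dt a b c d a = b ∧ dt a b c d b = a ∧ dt a b c d c = d ∧ dt a b c d d = c ∧
      ∀ y, y ≠ a → y ≠ b → y ≠ c → y ≠ d → dt a b c d y = y := by
  obtain ⟨hab, hac, had, hbc, hbd, hcd⟩ := h
  refine ⟨?_, ?_, ?_, ?_, fun y h1 h2 h3 h4 => ?_⟩ <;>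
    simp [dt, Perm.mul_apply, swap_apply_of_ne_of_ne, *, hab.symm, hac.symm, had.symm, hbc.symm, hbd.symm, hcd.symm]

theorem sign_dt {a b c d : α} (h : Quad a b c d) : Perm.sign (dt a b c d) = 1 := by
  rw [dt, map_mul, Perm.sign_swap h.1, Perm.sign_swap h.2.2.2.2.2]; rfl

theorem dt_sq {a b c d : α} (h : Quad a b c d) : dt a b c d * dt a b c d = 1 := by
  obtain ⟨w1, w2, w3, w4, w5⟩ := dt_apply h
  refine Perm.ext fun y => ?_
  rw [Perm.mul_apply, Perm.one_apply]
  by_cases y1 : y = a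
  · rw [y1, w1, w2]
  by_cases y2 : y = b
  · rw [y2, w2, w1]
  by_cases y3 : y = c
  · rw [y3, w3, w4]
  by_cases y4 : y = d
  · rw [y4, w4, w3]
  rw [w5 y y1 y2 y3 y4, w5 y y1 y2 y3 y4]

theorem swap_commute_of_disjoint {a b c d : α} (h1 : a ≠ c) (h2 : a ≠ d) (h3 : b ≠ c) (h4 : b ≠ d) :
    Commute (swap a b) (swap c d) := by
  show swap a b * swap c d = swap c d * swap a b
  rw [Equiv.mul_swap_eq_swap_mul, swap_apply_of_ne_of_ne h1.symm h3.symm, swap_apply_of_ne_of_ne h2.symm h4.symm]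

theorem dt_mul {a b c d : α} (h : Quad a b c d) : dt a c b d * dt a b c d = dt b c a d := by
  obtain ⟨a1, a2, a3, a4, a5, a6⟩ := h
  refine Perm.ext fun z => ?_
  by_cases z = a <;> by_cases z = b <;> by_cases z = c <;> by_cases z = d <;>
    simp_all [dt, Perm.mul_apply, swap_apply_def, eq_comm]

theorem conj_dt (σ : Perm α) (a b c d : α) : σ * dt a b c d * σ⁻¹ = dt (σ a) (σ b) (σ c) (σ d) := by
  rw [dt, dt, ← conj_mul, ← swap_apply_apply, ← swap_apply_apply]

theorem extract {r : Perm α} (hr : r * r = 1) {a : α} (ha : r a ≠ a) :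
    (swap a (r a) * r) * (swap a (r a) * r) = 1 ∧ (swap a (r a) * r).support = r.support \ {a, r a} := by
  have hrr : ∀ y, r (r y) = y := fun y => by
    have := congrArg (fun f : Perm α => f y) hr
    simpa using this
  have hfix : ∀ y, (swap a (r a) * r) y = if y = a ∨ y = r a then y else r y := by
    intro y
    rw [Perm.mul_apply]
    split_ifs with h
    · rcases h with rfl | rfl
      · exact swap_apply_right _ _
      · rw [hrr]; exact swap_apply_left _ _
    · push Not at h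
      refine swap_apply_of_ne_of_ne (fun e => h.2 ?_) (fun e => h.1 (r.injective e))
      rw [← e, hrr]
  refine ⟨Perm.ext fun y => ?_, ?_⟩
  · rw [Perm.mul_apply, Perm.one_apply, hfix y]
    split_ifs with h
    · rw [hfix, if_pos h]
    · rw [hfix, if_neg, hrr]
      rintro (e | e)
      · exact h (Or.inr (by rw [← e, hrr]))
      · exact h (Or.inl (r.injective e))
  · ext y
    rw [Perm.mem_support, hfix, Finset.mem_sdiff, Perm.mem_support, Finset.mem_insert, Finset.mem_singleton]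
    split_ifs with h
    · simp [h]
    · exact ⟨fun e => ⟨e, h⟩, fun e => e.1⟩

theorem cycleType_involution {r : Perm α} (hr : r * r = 1) :
    r.cycleType = Multiset.replicate (r.support.card / 2) 2 := by
  have h : ∀ n ∈ r.cycleType, n = 2 := fun n hn => by
    have h1 : n ∣ 2 := (Perm.dvd_of_mem_cycleType hn).trans (orderOf_dvd_of_pow_eq_one (by rw [pow_two, hr]))
    have h2 := Perm.two_le_of_mem_cycleType hn
    have h3 := Nat.le_of_dvd two_pos h1
    omega
  have h1 := Multiset.eq_replicate_card.mpr h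
  have h2 := r.sum_cycleType
  rw [h1, Multiset.sum_replicate, smul_eq_mul] at h2
  rw [← h2, Nat.mul_div_cancel _ two_pos]
  exact h1

theorem two_pairs {r : Perm α} (hr : r * r = 1) (hs : Perm.sign r = 1) (h1 : r ≠ 1) :
    ∃ a b c d, ∃ k : Perm α, Quad a b c d ∧ r = dt a b c d * k ∧ (k a = a ∧ k b = b ∧ k c = c ∧ k d = d) ∧
      (a ∈ r.support ∧ b ∈ r.support ∧ c ∈ r.support ∧ d ∈ r.support) := by
  obtain ⟨a, ha⟩ : ∃ a, r a ≠ a := by
    by_contra h; push Not at h; exact h1 (Perm.ext h)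
  obtain ⟨e1, e2⟩ := extract hr ha
  set r1 := swap a (r a) * r with hr1
  have hs1 : Perm.sign r1 = -1 := by rw [hr1, map_mul, Perm.sign_swap (Ne.symm ha), hs, mul_one]
  obtain ⟨c, hc⟩ : ∃ c, r1 c ≠ c := by
    by_contra h; push Not at h
    rw [show r1 = 1 from Perm.ext h, Perm.sign_one] at hs1; exact absurd hs1 (by decide)
  obtain ⟨f1, f2⟩ := extract e1 hc
  have hcs : c ∈ r1.support := Perm.mem_support.mpr hc
  have hds : r1 c ∈ r1.support := Perm.apply_mem_support.mpr hcs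
  rw [e2] at hcs hds f2
  simp only [Finset.mem_sdiff, Finset.mem_insert, Finset.mem_singleton, not_or] at hcs hds
  refine ⟨a, r a, c, r1 c, swap c (r1 c) * r1, ⟨Ne.symm ha, Ne.symm hcs.2.1, Ne.symm hds.2.1, Ne.symm hcs.2.2,
    Ne.symm hds.2.2, Ne.symm hc⟩, ?_, ⟨?_, ?_, ?_, ?_⟩, ?_⟩
  · rw [dt, mul_assoc, swap_mul_self_mul, hr1, swap_mul_self_mul]
  any_goals (rw [← Perm.notMem_support, f2]; simp)
  exact ⟨Perm.mem_support.mpr ha, Perm.apply_mem_support.mpr (Perm.mem_support.mpr ha), hcs.1, hds.1⟩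

/-- An element with an odd permutation in its centralizer, in the shape used for lifting. -/
def Nice (w : Perm α) : Prop :=
  ∃ a b c d, ∃ k : Perm α, Quad a b c d ∧ w = dt a b c d * k ∧ k a = a ∧ k b = b ∧ k c = c ∧ k d = d

theorem nice_commute {w : Perm α} (hw : Nice w) : ∃ a b : α, a ≠ b ∧ Commute (swap a b) w := by
  obtain ⟨a, b, c, d, k, hq, rfl, ka, kb, -, -⟩ := hw
  refine ⟨a, b, hq.1, ?_⟩
  have h1 : Commute (swap a b) k := by
    show swap a b * k = k * swap a b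
    rw [Equiv.mul_swap_eq_swap_mul, ka, kb]
  have h2 : Commute (swap a b) (swap c d) := by
    exact swap_commute_of_disjoint hq.2.1 hq.2.2.1 hq.2.2.2.1 hq.2.2.2.2.1
  exact ((Commute.refl _).mul_right h2).mul_right h1

theorem odd_form {r : Perm α} (hr : r * r = 1) {a b : α} (ha : r a ≠ a) (hb : r b = b) :
    (r * swap a b).cycleType = Multiset.replicate ((r.support.card - 2) / 2) 2 + {3} ∧
      ∃ t : Perm α, r * swap a b = (swap a (r a) * r) * t ∧
        ∀ y ∈ (swap a (r a) * r).support, t y = y := by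
  obtain ⟨e1, e2⟩ := extract hr ha
  have hab : a ≠ b := fun e => ha (e ▸ hb)
  have hcb : r a ≠ b := fun e => by
    have := congrArg (fun f : Perm α => f a) hr
    simp only [Perm.mul_apply, Perm.one_apply, e, hb] at this
    exact hab this.symm
  set r1 := swap a (r a) * r with hr1
  have hbn : b ∉ r1.support := by rw [e2]; simp [Perm.notMem_support.mpr hb]
  have han : a ∉ r1.support := by rw [e2]; simp
  have hcn : r a ∉ r1.support := by rw [e2]; simp
  have hcomm : r = r1 * swap a (r a) := by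
    rw [Equiv.mul_swap_eq_swap_mul, Perm.notMem_support.mp han, Perm.notMem_support.mp hcn, hr1,
      swap_mul_self_mul]
  set t := swap a (r a) * swap a b with ht
  have hfix : ∀ y ∈ r1.support, t y = y := fun y hy => by
    have h1 : y ≠ a := fun e => han (e ▸ hy)
    have h2 : y ≠ r a := fun e => hcn (e ▸ hy)
    have h3 : y ≠ b := fun e => hbn (e ▸ hy)
    rw [ht, Perm.mul_apply, swap_apply_of_ne_of_ne h1 h3, swap_apply_of_ne_of_ne h1 h2]
  have hw : r * swap a b = r1 * t := by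
    conv_lhs => rw [hcomm]
    rw [ht, mul_assoc]
  refine ⟨?_, t, hw, hfix⟩
  have hd : Perm.Disjoint r1 t := fun y => by
    by_cases hy : y ∈ r1.support
    · exact Or.inr (hfix y hy)
    · exact Or.inl (Perm.notMem_support.mp hy)
  have h3 : t.IsThreeCycle := Perm.isThreeCycle_swap_mul_swap_same (Ne.symm ha) hab hcb
  rw [hw, hd.cycleType_mul, cycleType_involution e1, h3.cycleType, e2, Finset.card_sdiff_of_subset,
    Finset.card_pair (Ne.symm ha)]
  intro y hy
  rw [Finset.mem_insert, Finset.mem_singleton] at hy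
  rcases hy with rfl | rfl
  · exact Perm.mem_support.mpr ha
  · exact Perm.apply_mem_support.mpr (Perm.mem_support.mpr ha)

theorem exists_nice_conj (hn : 5 ≤ Fintype.card α) {g : Perm α} (hg : Perm.sign g = 1) (h1 : g ≠ 1) :
    ∃ w w' : Perm α, Nice w ∧ Perm.sign w = 1 ∧ IsConj w w' ∧ g = w' * w⁻¹ := by
  obtain ⟨r, r1, r2, -, r4, r5⟩ := exists_inverting g
  rw [excess, if_pos hg, add_zero] at r4
  obtain ⟨b, hb1, hb2⟩ := r5 h1
  obtain ⟨a, ha1, ha2⟩ : ∃ a, a ∈ r.support ∧ a ∉ (g * r).support := by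
    by_contra h
    push Not at h
    exact hb2 (Finset.eq_of_subset_of_card_le h r4.le ▸ hb1)
  have hra : r a ≠ a := Perm.mem_support.mp ha1
  have hrb : r b = b := Perm.notMem_support.mp hb2
  have hsb : (g * r) b ≠ b := Perm.mem_support.mp hb1
  have hsa : (g * r) a = a := Perm.notMem_support.mp ha2
  have hinv : r⁻¹ = r := inv_eq_of_mul_eq_one_right r1
  have hne : r ≠ 1 := fun e => hra (by rw [e]; rfl)
  have hab : a ≠ b := fun e => hra (e ▸ hrb)
  rcases Int.units_eq_one_or (Perm.sign r) with hs | hs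
  · obtain ⟨p, q, u, v, k, hq, he, hk, -⟩ := two_pairs r1 hs hne
    refine ⟨r, g * r, ⟨p, q, u, v, k, hq, he, hk⟩, hs, Perm.isConj_iff_cycleType_eq.mpr ?_, by group⟩
    rw [cycleType_involution r1, cycleType_involution r2, r4]
  obtain ⟨e1, e2⟩ := extract r1 hra
  have hs1 : Perm.sign (swap a (r a) * r) = 1 := by
    rw [map_mul, Perm.sign_swap (Ne.symm hra), hs]; rfl
  by_cases hone : swap a (r a) * r = 1
  · have hr : r = swap a (r a) := by
      have h := inv_eq_of_mul_eq_one_right hone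
      rw [swap_inv] at h
      exact h.symm
    have hcard : (g * r).support.card = 2 := by rw [r4, hr]; exact Perm.card_support_swap (Ne.symm hra)
    obtain ⟨x, y, hxy, hswap⟩ := Perm.card_support_eq_two.mp hcard
    have hgb : g * r = swap b ((g * r) b) := by
      rw [hswap] at hsb ⊢
      rcases eq_or_ne b x with rfl | h
      · rw [swap_apply_left]
      rcases eq_or_ne b y with rfl | h'
      · rw [swap_apply_right, swap_comm]
      exact absurd (swap_apply_of_ne_of_ne h h') hsb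
    generalize hd : (g * r) b = d at hsb hgb
    generalize hc : r a = c at hra hr
    have hbc : b ≠ c := fun e => by
      rw [hr, e, swap_apply_right] at hrb
      exact hab (hrb.trans e.symm)
    have had : a ≠ d := fun e => by
      rw [hgb, e, swap_apply_right] at hsa
      exact hab (e.trans hsa.symm)
    have hge : g = swap b d * swap a c := by
      rw [← hgb, ← hr, mul_assoc, r1, mul_one]
    by_cases hcd : c = d
    · obtain ⟨e, f, he, hf, hef⟩ : ∃ e f, e ∉ ({a, b, c} : Finset α) ∧ f ∉ ({a, b, c} : Finset α) ∧ e ≠ f := by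
        have : 1 < (Finset.univ \ ({a, b, c} : Finset α)).card := by
          rw [Finset.card_sdiff_of_subset (Finset.subset_univ _), Finset.card_univ]
          have := Finset.card_le_three (a := a) (b := b) (c := c)
          omega
        obtain ⟨e, he, f, hf, hef⟩ := Finset.one_lt_card.mp this
        exact ⟨e, f, (Finset.mem_sdiff.mp he).2, (Finset.mem_sdiff.mp hf).2, hef⟩
      simp only [Finset.mem_insert, Finset.mem_singleton, not_or] at he hf
      subst hcd
      have q1 : Quad a c e f := ⟨Ne.symm hra, Ne.symm he.1, Ne.symm hf.1, Ne.symm he.2.2, Ne.symm hf.2.2, hef⟩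
      have q2 : Quad b c e f := ⟨hbc, Ne.symm he.2.1, Ne.symm hf.2.1, Ne.symm he.2.2, Ne.symm hf.2.2, hef⟩
      refine ⟨dt a c e f, dt b c e f, ⟨a, c, e, f, 1, q1, by simp, rfl, rfl, rfl, rfl⟩, sign_dt q1,
        isConj_iff.mpr ⟨swap a b, ?_⟩, ?_⟩
      · rw [conj_dt, swap_apply_left, swap_apply_of_ne_of_ne hra (Ne.symm hbc),
          swap_apply_of_ne_of_ne he.1 he.2.1, swap_apply_of_ne_of_ne hf.1 hf.2.1]
      · rw [hge, dt, dt, mul_inv_rev, swap_inv, swap_inv, mul_assoc, swap_mul_self_mul]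
    · have hq : Quad a b c d := ⟨hab, Ne.symm hra, had, hbc, Ne.symm hsb, hcd⟩
      obtain ⟨w1, w2, w3, w4, w5⟩ := dt_apply hq
      refine ⟨dt a b c d, dt a d c b, ⟨a, b, c, d, 1, hq, by simp, rfl, rfl, rfl, rfl⟩, sign_dt hq,
        isConj_iff.mpr ⟨swap b d, ?_⟩, ?_⟩
      · rw [conj_dt, swap_apply_left, swap_apply_right, swap_apply_of_ne_of_ne hab had,
          swap_apply_of_ne_of_ne (Ne.symm hbc) hcd]
      · rw [hge, eq_mul_inv_iff_mul_eq]
        refine Perm.ext fun y => ?_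
        obtain ⟨v1, v2, v3, v4, v5⟩ := dt_apply (a := a) (b := d) (c := c) (d := b)
          ⟨had, Ne.symm hra, hab, Ne.symm hcd, hsb, Ne.symm hbc⟩
        rw [Perm.mul_apply, Perm.mul_apply]
        by_cases y1 : y = a
        · subst y1; rw [w1, v1, swap_apply_of_ne_of_ne (Ne.symm hab) hbc, swap_apply_left]
        by_cases y2 : y = b
        · subst y2; rw [w2, v4, swap_apply_left, swap_apply_of_ne_of_ne (Ne.symm hbc) hcd]
        by_cases y3 : y = c
        · subst y3; rw [w3, v3, swap_apply_of_ne_of_ne (Ne.symm had) (Ne.symm hcd), swap_apply_right]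
        by_cases y4 : y = d
        · subst y4; rw [w4, v2, swap_apply_right, swap_apply_of_ne_of_ne hab had]
        · rw [w5 y y1 y2 y3 y4, v5 y y1 y4 y3 y2, swap_apply_of_ne_of_ne y1 y3, swap_apply_of_ne_of_ne y2 y4]
  · obtain ⟨f1, t, ht, htfix⟩ := odd_form r1 hra hrb
    obtain ⟨g1, -⟩ := odd_form r2 hsb hsa
    obtain ⟨p, q, u, v, k, hq, he, ⟨k1, k2, k3, k4⟩, hp, hq', hu, hv⟩ := two_pairs e1 hs1 hone
    refine ⟨r * swap a b, g * r * swap a b, ⟨p, q, u, v, k * t, hq, by rw [ht, he, mul_assoc], ?_, ?_, ?_, ?_⟩,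
      by rw [map_mul, hs, Perm.sign_swap hab]; rfl, Perm.isConj_iff_cycleType_eq.mpr ?_,
      by rw [mul_inv_rev, swap_inv, hinv, mul_assoc (g * r), swap_mul_self_mul, mul_assoc, r1, mul_one]⟩
    · rw [Perm.mul_apply, htfix p hp, k1]
    · rw [Perm.mul_apply, htfix q hq', k2]
    · rw [Perm.mul_apply, htfix u hu, k3]
    · rw [Perm.mul_apply, htfix v hv, k4]
    · rw [f1, swap_comm a b, g1, r4]

theorem exists_even_conj (hn : 5 ≤ Fintype.card α) {g : Perm α} (hg : Perm.sign g = 1) (h1 : g ≠ 1) :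
    ∃ w σ : Perm α, Nice w ∧ Perm.sign w = 1 ∧ Perm.sign σ = 1 ∧ g = σ * w * σ⁻¹ * w⁻¹ := by
  obtain ⟨w, w', hw, hs, hc, he⟩ := exists_nice_conj hn hg h1
  obtain ⟨σ, hσ⟩ := isConj_iff.mp hc
  rcases Int.units_eq_one_or (Perm.sign σ) with h | h
  · exact ⟨w, σ, hw, hs, h, by rw [he, hσ]⟩
  · obtain ⟨a, b, hab, hcom⟩ := nice_commute hw
    refine ⟨w, σ * swap a b, hw, hs, by rw [map_mul, h, Perm.sign_swap hab]; rfl, ?_⟩
    rw [show σ * swap a b * w * (σ * swap a b)⁻¹ = σ * (swap a b * w * (swap a b)⁻¹) * σ⁻¹ by group,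
      hcom.eq, mul_inv_cancel_right, hσ, he]

end Perms

section Cover

variable {n : ℕ} {G : Type*} [Group G] (π : G →* alternatingGroup (Fin n))

theorem ker_mul {x x' : G} (h : π x = π x') : ∃ k ∈ π.ker, x' = k * x :=
  ⟨x' * x⁻¹, by rw [MonoidHom.mem_ker, map_mul, map_inv, h, mul_inv_cancel], by group⟩

variable (hker : π.ker ≤ Subgroup.center G) (h2 : Nat.card π.ker = 2)
include hker h2

theorem ker_central {k : G} (hk : k ∈ π.ker) (y : G) : y * k = k * y :=
  Subgroup.mem_center_iff.mp (hker hk) y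

theorem ker_sq {k : G} (hk : k ∈ π.ker) : k * k = 1 := by
  have h : (⟨k, hk⟩ : π.ker) ^ 2 = 1 := by rw [← h2]; exact pow_card_eq_one'
  simpa [pow_two] using congrArg Subtype.val h

theorem ker_unique {k l : G} (hk : k ∈ π.ker) (hl : l ∈ π.ker) (hk1 : k ≠ 1) (hl1 : l ≠ 1) : k = l := by
  haveI : Finite π.ker := Nat.finite_of_card_ne_zero (by omega)
  by_contra hne
  have h := Nat.card_le_card_of_injective (f := ![(1 : π.ker), ⟨k, hk⟩, ⟨l, hl⟩]) (by
    intro i j hij
    fin_cases i <;> fin_cases j <;> simp [Subtype.ext_iff] at hij ⊢ <;>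
      first | exact hk1 hij | exact hl1 hij | exact hk1 hij.symm | exact hl1 hij.symm | exact hne hij | exact hne hij.symm)
  rw [h2, Nat.card_fin] at h
  omega

theorem commute_indep {x x' y y' : G} (hx : π x = π x') (hy : π y = π y') (h : Commute x y) : Commute x' y' := by
  obtain ⟨k, hk, rfl⟩ := ker_mul π hx
  obtain ⟨l, hl, rfl⟩ := ker_mul π hy
  have hkc : ∀ z, Commute k z := fun z => (ker_central π hker h2 hk z).symm
  have hlc : ∀ z, Commute l z := fun z => (ker_central π hker h2 hl z).symm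
  exact ((hkc _).mul_left ((hlc x).symm.mul_right h))

theorem sq_indep {y y' : G} (hy : π y = π y') : y' * y' = y * y := by
  obtain ⟨l, hl, rfl⟩ := ker_mul π hy
  rw [mul_assoc l y, ← mul_assoc y l, ker_central π hker h2 hl y, mul_assoc l y y, ← mul_assoc,
    ker_sq π hker h2 hl, one_mul]

/-- The lifts of the two permutations of a quadruple commute. -/
def Bad (a b c d : Fin n) : Prop :=
  ∀ x y : G, (π x : Perm (Fin n)) = dt a c b d → (π y : Perm (Fin n)) = dt a b c d → Commute x y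

theorem pi_ext {x y : G} (h : (π x : Perm (Fin n)) = π y) : π x = π y := Subtype.ext h

theorem bad_all (hsurj : Function.Surjective π) {a b c d : Fin n} (hq : Quad a b c d) (hbad : Bad π a b c d)
    {a' b' c' d' : Fin n} (hq' : Quad a' b' c' d') : Bad π a' b' c' d' := by
  classical
  have hinj : ∀ {p q r s : Fin n}, Quad p q r s → Function.Injective ![p, q, r, s] := by
    intro p q r s hQ i j hij
    obtain ⟨a1, a2, a3, a4, a5, a6⟩ := hQ
    fin_cases i <;> fin_cases j <;> simp_all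
  obtain ⟨σ, hσ⟩ : ∃ σ : Perm (Fin n), ∀ i, σ (![a, b, c, d] i) = ![a', b', c', d'] i := by
    obtain ⟨σ, hσ⟩ := (Equiv.Perm.isMultiplyPretransitive (Fin n) 4).exists_smul_eq
      ⟨_, hinj hq⟩ ⟨_, hinj hq'⟩
    exact ⟨σ, fun i => congrFun (congrArg DFunLike.coe hσ) i⟩
  have h0 : σ a = a' := hσ 0
  have h1 : σ b = b' := hσ 1
  have h2' : σ c = c' := hσ 2
  have h3 : σ d = d' := hσ 3
  intro x y hx hy
  have hlift : ∀ τ : Perm (Fin n), Perm.sign τ = 1 → ∃ s : G, (π s : Perm (Fin n)) = τ := fun τ h => by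
    obtain ⟨s, hs⟩ := hsurj ⟨τ, Perm.mem_alternatingGroup.mpr h⟩
    exact ⟨s, by rw [hs]⟩
  rcases Int.units_eq_one_or (Perm.sign σ) with h | h
  · obtain ⟨s, hs⟩ := hlift σ h
    have hb := hbad (s⁻¹ * x * s) (s⁻¹ * y * s) (by simp [hx, hs, ← h0, ← h1, ← h2', ← h3, ← conj_dt, mul_assoc])
      (by simp [hy, hs, ← h0, ← h1, ← h2', ← h3, ← conj_dt, mul_assoc])
    have := hb.conj (s)
    simpa [mul_assoc] using this
  · obtain ⟨s, hs⟩ := hlift (σ * swap a b) (by rw [map_mul, h, Perm.sign_swap hq.1]; rfl)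
    have e1 : (σ * swap a b) a = b' := by simp [h1]
    have e2 : (σ * swap a b) b = a' := by simp [h0]
    have e3 : (σ * swap a b) c = c' := by simp [swap_apply_of_ne_of_ne hq.2.1.symm hq.2.2.2.1.symm, h2']
    have e4 : (σ * swap a b) d = d' := by simp [swap_apply_of_ne_of_ne hq.2.2.1.symm hq.2.2.2.2.1.symm, h3]
    obtain ⟨u, hu⟩ := hlift (dt a c b d) (sign_dt ⟨hq.2.1, hq.1, hq.2.2.1, hq.2.2.2.1.symm, hq.2.2.2.2.2, hq.2.2.2.2.1⟩)
    obtain ⟨v, hv⟩ := hlift (dt a b c d) (sign_dt hq)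
    have huv : Commute (u * v) v := (hbad u v hu hv).mul_left (Commute.refl v)
    have hprod := dt_mul hq
    have hc' := huv.conj s
    refine commute_indep π hker h2 (pi_ext π hker h2 ?_) (pi_ext π hker h2 ?_) hc'
    · rw [hx, map_mul, map_mul, map_inv, map_mul, Subgroup.coe_mul, Subgroup.coe_mul, Subgroup.coe_inv,
        Subgroup.coe_mul, hs, hu, hv, hprod, conj_dt, e1, e2, e3, e4]
    · rw [hy, map_mul, map_mul, map_inv, Subgroup.coe_mul, Subgroup.coe_mul, Subgroup.coe_inv, hs, hv,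
        conj_dt, e1, e2, e3, e4, dt, dt, swap_comm b' a']

theorem sq_eq_one_of_bad (hsurj : Function.Surjective π) (hall : ∀ a b c d : Fin n, Quad a b c d → Bad π a b c d)
    {a b c d : Fin n} (hq : Quad a b c d) {y : G} (hy : (π y : Perm (Fin n)) = dt a b c d) : y * y = 1 := by
  classical
  obtain ⟨a1, a2, a3, a4, a5, a6⟩ := hq
  have q2 : Quad a c b d := ⟨a2, a1, a3, a4.symm, a6, a5⟩
  obtain ⟨t, ht⟩ := hsurj ⟨swap b c * swap c d, Perm.mem_alternatingGroup.mpr (by
    rw [map_mul, Perm.sign_swap a4, Perm.sign_swap a6]; rfl)⟩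
  have ht' : (π t : Perm (Fin n)) = swap b c * swap c d := by rw [ht]
  have hta : (π t : Perm (Fin n)) a = a ∧ (π t : Perm (Fin n)) b = c ∧ (π t : Perm (Fin n)) c = d ∧
      (π t : Perm (Fin n)) d = b := by
    rw [ht']
    simp [Perm.mul_apply, swap_apply_of_ne_of_ne, a1, a2, a3, a4, a5, a6, a1.symm, a2.symm, a3.symm,
      a4.symm, a5.symm, a6.symm]
  have hk : ∀ {p q r u : Fin n}, Quad p q r u → ∀ {z : G}, (π z : Perm (Fin n)) = dt p q r u →
      t * z * t⁻¹ * (t * z * t⁻¹) = z * z := by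
    intro p q r u hQ z hz
    have hzz : z * z ∈ π.ker := by
      rw [MonoidHom.mem_ker]
      refine Subtype.ext ?_
      rw [map_mul, Subgroup.coe_mul, hz, dt_sq hQ, Subgroup.coe_one]
    calc t * z * t⁻¹ * (t * z * t⁻¹) = t * (z * z) * t⁻¹ := by group
      _ = z * z := by rw [ker_central π hker h2 hzz t, mul_inv_cancel_right]
  obtain ⟨x, hx⟩ := hsurj ⟨dt a c b d, Perm.mem_alternatingGroup.mpr (sign_dt q2)⟩
  have hx' : (π x : Perm (Fin n)) = dt a c b d := by rw [hx]
  have hc : Commute x y := hall a b c d ⟨a1, a2, a3, a4, a5, a6⟩ x y hx' hy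
  have e1 : x * x = y * y := by
    rw [← hk ⟨a1, a2, a3, a4, a5, a6⟩ hy]
    refine sq_indep π hker h2 (pi_ext π hker h2 ?_)
    rw [map_mul, map_mul, map_inv, Subgroup.coe_mul, Subgroup.coe_mul, Subgroup.coe_inv, hy, conj_dt,
      hta.1, hta.2.1, hta.2.2.1, hta.2.2.2, hx', dt, dt, swap_comm d b]
  have e2 : x * y * (x * y) = x * x := by
    rw [← hk q2 hx']
    refine sq_indep π hker h2 (pi_ext π hker h2 ?_)
    rw [map_mul, map_mul, map_inv, Subgroup.coe_mul, Subgroup.coe_mul, Subgroup.coe_inv, hx', conj_dt,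
      hta.1, hta.2.1, hta.2.2.1, hta.2.2.2, map_mul, Subgroup.coe_mul, hx', hy,
      dt_mul ⟨a1, a2, a3, a4, a5, a6⟩, dt, dt, swap_comm c b]
    exact (swap_commute_of_disjoint a1 a2 a5.symm a6.symm).eq
  rw [hc.symm.mul_mul_mul_comm x y] at e2
  simpa using e2

theorem exists_not_commute (hsurj : Function.Surjective π) (hn : 5 ≤ n) (hperf : commutator G = ⊤)
    {a b c d : Fin n} (hq : Quad a b c d) {x y : G} (hx : (π x : Perm (Fin n)) = dt a c b d)
    (hy : (π y : Perm (Fin n)) = dt a b c d) : ¬ Commute x y := by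
  classical
  intro hxy
  have hbad : Bad π a b c d := fun x' y' hx' hy' =>
    commute_indep π hker h2 (pi_ext π hker h2 (hx.trans hx'.symm)) (pi_ext π hker h2 (hy.trans hy'.symm)) hxy
  have hall : ∀ a' b' c' d' : Fin n, Quad a' b' c' d' → Bad π a' b' c' d' := fun a' b' c' d' h =>
    bad_all π hker h2 hsurj hq hbad h
  obtain ⟨m, rfl⟩ : ∃ m, n = m + 2 := ⟨n - 2, by omega⟩
  let f : Fin m → Fin (m + 2) := fun i => i.succ.succ
  have hf0 : ∀ i, f i ≠ 0 := fun i => Fin.succ_ne_zero _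
  have hf1 : ∀ i, f i ≠ 1 := fun i h =>
    Fin.succ_ne_zero i (Fin.succ_injective _ (h.trans Fin.succ_zero_eq_one.symm))
  have h01 : (0 : Fin (m + 2)) ≠ 1 := by simp
  have hlift : ∀ i, ∃ X : G, (π X : Perm (Fin (m + 2))) = cyc 0 1 (f i) ∧ X ^ 3 = 1 := by
    intro i
    obtain ⟨Y, hY⟩ := hsurj ⟨cyc 0 1 (f i), cyc_mem h01 (hf0 i).symm⟩
    have h3 : (cyc 0 1 (f i)) ^ 3 = 1 := by
      have := cyc_three h01 (hf0 i).symm (hf1 i).symm
      rw [← this.orderOf, pow_orderOf_eq_one]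
    have hk : Y ^ 3 ∈ π.ker := by
      rw [MonoidHom.mem_ker, map_pow, hY]
      exact Subtype.ext (by rw [SubgroupClass.coe_pow, Subgroup.coe_one]; exact h3)
    refine ⟨Y ^ 4, ?_, ?_⟩
    · rw [map_pow, hY, SubgroupClass.coe_pow, pow_succ, h3, one_mul]
    · rw [← pow_mul, show 4 * 3 = 3 * 4 by norm_num, pow_mul, show (Y ^ 3) ^ 4 = (Y ^ 3 * Y ^ 3) * (Y ^ 3 * Y ^ 3) by group,
        ker_sq π hker h2 hk, one_mul]
  choose X hX hX3 using hlift
  have hX2 : ∀ i j, i ≠ j → (X i * X j) ^ 2 = 1 := by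
    intro i j hij
    have hne : f i ≠ f j := fun e => hij (Fin.succ_injective _ (Fin.succ_injective _ e))
    have hQ : Quad 0 (f i) 1 (f j) := ⟨(hf0 i).symm, h01, (hf0 j).symm, hf1 i, hne, (hf1 j).symm⟩
    rw [pow_two]
    refine sq_eq_one_of_bad π hker h2 hsurj hall hQ ?_
    rw [map_mul, Subgroup.coe_mul, hX, hX]
    obtain ⟨u1, u2, u3⟩ := cyc_apply h01 (hf0 i).symm (hf1 i).symm
    obtain ⟨v1, v2, v3⟩ := cyc_apply h01 (hf0 j).symm (hf1 j).symm
    obtain ⟨w1, w2, w3, w4, w5⟩ := dt_apply hQ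
    refine Perm.ext fun z => ?_
    rw [Perm.mul_apply]
    by_cases z1 : z = 0
    · subst z1; rw [v1, u2, w1]
    by_cases z2 : z = 1
    · subst z2; rw [v2, w3, cyc_fix (hf0 j) (hf1 j) hne.symm]
    by_cases z3 : z = f j
    · subst z3; rw [v3, u1, w4]
    rw [cyc_fix z1 z2 z3]
    by_cases z4 : z = f i
    · subst z4; rw [u3, w2]
    rw [cyc_fix z1 z2 z4, w5 z z1 z4 z2 z3]
  haveI : Finite π.ker := Nat.finite_of_card_ne_zero (by omega)
  haveI : Finite G := by
    haveI : Finite (G ⧸ π.ker) :=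
      Finite.of_equiv _ (QuotientGroup.quotientKerEquivOfSurjective π hsurj).symm.toEquiv
    exact Finite.of_subgroup_quotient π.ker
  set H := Subgroup.closure (Set.range X) with hH
  have hbound := carmichael_bound m X hX3 hX2
  have hA : alternatingGroup (Fin (m + 2)) ≤ (H.map π).map (alternatingGroup (Fin (m + 2))).subtype := by
    refine alt_le_of_mem h01 _ (fun i hi0 hi1 => ?_) ?_
    · obtain ⟨k, rfl⟩ : ∃ k, i = f k := by
        obtain ⟨j, rfl⟩ := Fin.exists_succ_eq.mpr hi0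
        obtain ⟨k, rfl⟩ := Fin.exists_succ_eq.mpr (show j ≠ 0 from fun e => hi1 (by rw [e]; exact Fin.succ_zero_eq_one))
        exact ⟨k, rfl⟩
      exact ⟨π (X k), ⟨X k, Subgroup.subset_closure ⟨k, rfl⟩, rfl⟩, hX k⟩
    · rintro _ ⟨p, -, rfl⟩
      exact p.2
  have htop : ∀ g : G, ∃ h ∈ H, ∃ k ∈ π.ker, g = h * k := by
    intro g
    obtain ⟨p, ⟨h, hh, rfl⟩, hp⟩ := hA (π g).2
    exact ⟨h, hh, h⁻¹ * g, by rw [MonoidHom.mem_ker, map_mul, map_inv, Subtype.ext hp]; exact inv_mul_cancel _, by group⟩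
  have hle : commutator G ≤ H := commutator_le_of_sup_eq_top hker htop
  rw [hperf, top_le_iff] at hle
  rw [← hH, hle, Nat.card_congr Subgroup.topEquiv.toEquiv, Subgroup.card_eq_card_quotient_mul_card_subgroup π.ker, h2,
    Nat.card_congr (QuotientGroup.quotientKerEquivOfSurjective π hsurj).toEquiv] at hbound
  haveI : Nontrivial (Fin (m + 2)) := Fin.nontrivial_iff_two_le.mpr (by omega)
  have hA2 := nat_card_alternatingGroup (α := Fin (m + 2))
  rw [Nat.card_fin] at hA2
  have := Nat.factorial_pos (m + 2)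
  have h3 : 3 ≤ (m + 2).factorial := le_trans (by omega) (Nat.self_le_factorial _)
  have := Nat.div_add_mod (m + 2).factorial 2
  omega

theorem central_comm {x k t s : G} (hx : π x = π (t * s * t⁻¹ * s⁻¹))
    (ht : Commute (π t) (π k)) (hs : Commute (π s) (π k)) : Commute x k := by
  obtain ⟨e, he, rfl⟩ := ker_mul π hx.symm
  refine Commute.mul_left ((ker_central π hker h2 he k).symm) ?_
  have key : ∀ u : G, Commute (π u) (π k) → ∃ z ∈ π.ker, u * k * u⁻¹ = z * k := fun u hu =>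
    ⟨u * k * u⁻¹ * k⁻¹, by
      rw [MonoidHom.mem_ker, map_mul, map_mul, map_mul, map_inv, map_inv, hu.eq, mul_inv_cancel_right,
        mul_inv_cancel], by group⟩
  obtain ⟨z, hz, hzt⟩ := key t⁻¹ (by rw [map_inv]; exact ht.inv_left)
  obtain ⟨w, hw, hws⟩ := key s⁻¹ (by rw [map_inv]; exact hs.inv_left)
  have zc := ker_central π hker h2 hz
  have wc := ker_central π hker h2 hw
  have e1 : t⁻¹ * k = z * k * t⁻¹ := by rw [← hzt]; group
  have e2 : s⁻¹ * k = w * k * s⁻¹ := by rw [← hws]; group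
  have f1 : t⁻¹ * s⁻¹ * k = z * w * k * (t⁻¹ * s⁻¹) := by
    calc t⁻¹ * s⁻¹ * k = t⁻¹ * (w * (k * s⁻¹)) := by rw [mul_assoc, e2, mul_assoc]
      _ = w * (t⁻¹ * k) * s⁻¹ := by rw [← mul_assoc, wc]; group
      _ = w * z * k * (t⁻¹ * s⁻¹) := by rw [e1]; group
      _ = _ := by rw [← wc z]
  have f2 : s⁻¹ * t⁻¹ * k = z * w * k * (s⁻¹ * t⁻¹) := by
    calc s⁻¹ * t⁻¹ * k = s⁻¹ * (z * (k * t⁻¹)) := by rw [mul_assoc, e1, mul_assoc]
      _ = z * (s⁻¹ * k) * t⁻¹ := by rw [← mul_assoc, zc]; group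
      _ = z * w * k * (s⁻¹ * t⁻¹) := by rw [e2]; group
  show t * s * t⁻¹ * s⁻¹ * k = k * (t * s * t⁻¹ * s⁻¹)
  have f3 : k * (t * s) = t * s * (z * w * k) := by
    calc k * (t * s) = t * s * (s⁻¹ * t⁻¹ * k) * (t * s) := by group
      _ = t * s * (z * w * k * (s⁻¹ * t⁻¹)) * (t * s) := by rw [f2]
      _ = _ := by group
  calc t * s * t⁻¹ * s⁻¹ * k = t * s * (t⁻¹ * s⁻¹ * k) := by group
    _ = t * s * (z * w * k) * (t⁻¹ * s⁻¹) := by rw [f1]; group
    _ = k * (t * s) * (t⁻¹ * s⁻¹) := by rw [f3]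
    _ = _ := by group

theorem all_commutators (hsurj : Function.Surjective π) (hn : 5 ≤ n) (hperf : commutator G = ⊤) (g : G) :
    ∃ a b : G, a * b * a⁻¹ * b⁻¹ = g := by
  classical
  have hlift : ∀ τ : Perm (Fin n), Perm.sign τ = 1 → ∃ s : G, (π s : Perm (Fin n)) = τ := fun τ h => by
    obtain ⟨s, hs⟩ := hsurj ⟨τ, Perm.mem_alternatingGroup.mpr h⟩
    exact ⟨s, by rw [hs]⟩
  have hflip : ∀ {a b c d : Fin n}, Quad a b c d → ∀ {x y : G}, (π x : Perm (Fin n)) = dt a c b d →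
      (π y : Perm (Fin n)) = dt a b c d → x * y * x⁻¹ * y⁻¹ ∈ π.ker ∧ x * y * x⁻¹ * y⁻¹ ≠ 1 := by
    intro a b c d hq x y hx hy
    refine ⟨?_, fun e => exists_not_commute π hker h2 hsurj hn hperf hq hx hy
      (mul_inv_eq_iff_eq_mul.mp (mul_inv_eq_one.mp e))⟩
    rw [MonoidHom.mem_ker]
    refine Subtype.ext ?_
    simp only [map_mul, map_inv, Subgroup.coe_mul, Subgroup.coe_inv, hx, hy, Subgroup.coe_one]
    rw [conj_dt]
    obtain ⟨a1, a2, a3, a4, a5, a6⟩ := hq
    obtain ⟨w1, w2, w3, w4, -⟩ := dt_apply (show Quad a c b d from ⟨a2, a1, a3, a4.symm, a6, a5⟩)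
    rw [w1, w2, w3, w4, mul_inv_eq_one, dt, dt]
    exact (swap_commute_of_disjoint a2.symm a4.symm a3.symm a5.symm).eq
  by_cases hg : g ∈ π.ker
  · by_cases h1 : g = 1
    · exact ⟨1, 1, by simp [h1]⟩
    let a : Fin n := ⟨0, by omega⟩
    let b : Fin n := ⟨1, by omega⟩
    let c : Fin n := ⟨2, by omega⟩
    let d : Fin n := ⟨3, by omega⟩
    have hq : Quad a b c d := by simp [Quad, a, b, c, d]
    obtain ⟨x, hx⟩ := hlift (dt a c b d) (sign_dt (by simp [Quad, a, b, c, d]))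
    obtain ⟨y, hy⟩ := hlift (dt a b c d) (sign_dt hq)
    obtain ⟨e1, e2⟩ := hflip hq hx hy
    exact ⟨x, y, ker_unique π hker h2 e1 hg e2 h1⟩
  obtain ⟨w, σ, ⟨a, b, c, d, k, hq, hw, k1, k2, k3, k4⟩, hsw, hsσ, hge⟩ :=
    exists_even_conj (g := (π g : Perm (Fin n))) (by rw [Fintype.card_fin]; exact hn)
      (Perm.mem_alternatingGroup.mp (π g).2) (fun e => hg (MonoidHom.mem_ker.mpr (Subtype.ext e)))
  obtain ⟨a1, a2, a3, a4, a5, a6⟩ := id hq
  obtain ⟨x, hx⟩ := hlift (dt a c b d) (sign_dt ⟨a2, a1, a3, a4.symm, a6, a5⟩)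
  obtain ⟨y, hy⟩ := hlift (dt a b c d) (sign_dt hq)
  obtain ⟨K, hK⟩ := hlift k (by rw [hw, map_mul, sign_dt hq, one_mul] at hsw; exact hsw)
  obtain ⟨s, hs⟩ := hlift σ hsσ
  obtain ⟨t, ht⟩ := hlift (swap b c * swap c d) (by rw [map_mul, Perm.sign_swap a4, Perm.sign_swap a6]; rfl)
  obtain ⟨y1, hy1⟩ := hlift (dt a d b c) (sign_dt ⟨a3, a1, a2, a5.symm, a6.symm, a4⟩)
  have hk : ∀ p q, k p = p → k q = q → Commute (swap p q) k := fun p q hp hq => by
    show swap p q * k = k * swap p q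
    rw [Equiv.mul_swap_eq_swap_mul, hp, hq]
  have hxK : Commute x K := by
    refine central_comm π hker h2 (t := t) (s := y1) (pi_ext π hker h2 ?_) ?_ ?_
    · simp only [map_mul, map_inv, Subgroup.coe_mul, Subgroup.coe_inv, ht, hy1, hx]
      have q3 : Quad a d b c := ⟨a3, a1, a2, a5.symm, a6.symm, a4⟩
      have hp : (swap b c * swap c d) a = a ∧ (swap b c * swap c d) d = b ∧ (swap b c * swap c d) b = c ∧
          (swap b c * swap c d) c = d := by
        simp [Perm.mul_apply, swap_apply_of_ne_of_ne, a1, a2, a3, a4, a5, a6, a1.symm, a2.symm, a3.symm,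
          a4.symm, a5.symm, a6.symm]
      rw [conj_dt, hp.1, hp.2.1, hp.2.2.1, hp.2.2.2, inv_eq_of_mul_eq_one_right (dt_sq q3),
        show dt a b c d = dt a b d c by rw [dt, dt, swap_comm c d], dt_mul q3, dt, dt]
      rw [swap_comm d b]
      exact (swap_commute_of_disjoint a1 a3 a4.symm a6).eq
    · exact Subtype.ext (by rw [Subgroup.coe_mul, Subgroup.coe_mul, ht, hK]; exact (((hk b c k2 k3).mul_left (hk c d k3 k4))).eq)
    · exact Subtype.ext (by rw [Subgroup.coe_mul, Subgroup.coe_mul, hy1, hK]; exact (((hk a d k1 k4).mul_left (hk b c k2 k3))).eq)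
  obtain ⟨e1, e2⟩ := hflip hq hx hy
  set z := x * y * x⁻¹ * y⁻¹ with hz
  have hW : x * (y * K) * x⁻¹ = z * (y * K) := by
    calc x * (y * K) * x⁻¹ = x * y * (K * x⁻¹) := by group
      _ = x * y * (x⁻¹ * K) := by rw [hxK.symm.inv_right.eq]
      _ = z * (y * K) := by rw [hz]; group
  have hπ : π g = π (s * (y * K) * s⁻¹ * (y * K)⁻¹) := by
    refine Subtype.ext ?_
    simp only [map_mul, map_inv, Subgroup.coe_mul, Subgroup.coe_inv, hs, hy, hK]
    rw [hge, hw]
  obtain ⟨e, he, hge'⟩ := ker_mul π hπ.symm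
  by_cases he1 : e = 1
  · exact ⟨s, y * K, by rw [hge', he1, one_mul]⟩
  · refine ⟨s * x, y * K, ?_⟩
    rw [hge', ker_unique π hker h2 he e1 he1 e2, show s * x * (y * K) * (s * x)⁻¹ = s * (x * (y * K) * x⁻¹) * s⁻¹ by group,
      hW, ← mul_assoc s z, ker_central π hker h2 e1 s]
    group

end Cover

end Cfsg.Agent.Lib.AltCover
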